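import Groth.Agent.Lib.RDerLES.LES
import Mathlib.CategoryTheory.Abelian.RightDerived
import Mathlib.Algebra.Homology.ShortComplex.Exact

/-!
# Effaceable delta functors are right derived functors, naturally
-/

set_option autoImplicit false
universe v v' u u'

open CategoryTheory CategoryTheory.Limits

noncomputable section

namespace GrothLib.CechUniv

variable {A : Type u} [Category.{v} A] [Abelian A] [EnoughInjectives A] [HasInjectiveResolutions A]
  {B : Type u'} [Category.{v'} B] [Abelian B]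

/-- An effaceable `δ`-functor is the derived functor of its degree-zero part. -/
theorem nonempty_iso_rightDerived_of_delta (F : A ⥤ B) [F.Additive] [PreservesFiniteLimits F] (T : ℕ → A ⥤ B)
    (d : ∀ (S : ShortComplex A) (_ : S.ShortExact) (n : ℕ), (T n).obj S.X₃ ⟶ (T (n + 1)).obj S.X₁)
    (hnat : ∀ (S S' : ShortComplex A) (hS : S.ShortExact) (hS' : S'.ShortExact) (φ : S ⟶ S') (n : ℕ),
      (T n).map φ.τ₃ ≫ d S' hS' n = d S hS n ≫ (T (n + 1)).map φ.τ₁)
    (hzero : ∀ (S : ShortComplex A) (hS : S.ShortExact) (n : ℕ), (T n).map S.g ≫ d S hS n = 0)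
    (hex : ∀ (S : ShortComplex A) (hS : S.ShortExact) (n : ℕ) (_ : Injective S.X₂),
      (ShortComplex.mk _ _ (hzero S hS n)).Exact)
    (hepi : ∀ (S : ShortComplex A) (hS : S.ShortExact) (n : ℕ) (_ : Injective S.X₂), Epi (d S hS n))
    (e₀ : T 0 ≅ F) : ∀ n : ℕ, Nonempty (T n ≅ F.rightDerived n) := by
  obtain ⟨les⟩ := RDerLES.nonempty_derivedLES F
  intro n
  induction n with
  | zero => exact ⟨e₀ ≪≫ F.rightDerivedZeroIsoSelf.symm⟩
  | succ n ih =>
    obtain ⟨e⟩ := ih
    let S : A → ShortComplex A := fun X =>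
      ShortComplex.mk (Injective.ι X) (cokernel.π (Injective.ι X)) (cokernel.condition _)
    have hS : ∀ X, (S X).ShortExact := fun X => { exact := ShortComplex.exact_cokernel _ }
    have hJ : ∀ X, Injective (S X).X₂ := fun X => inferInstanceAs (Injective (Injective.under X))
    let p : ∀ X : A, (T n).obj (S X).X₃ ⟶ (T (n + 1)).obj X := fun X => d (S X) (hS X) n
    let q : ∀ X : A, (F.rightDerived n).obj (S X).X₃ ⟶ (F.rightDerived (n + 1)).obj X :=
      fun X => les.δ (S X) (hS X) n (n + 1) rfl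
    have hp : ∀ X, Epi (p X) := fun X => hepi _ (hS X) n (hJ X)
    have hq : ∀ X, Epi (q X) := fun X =>
      haveI := hJ X
      (les.exact₁ (S X) (hS X) n (n + 1) rfl).epi_f
        ((F.isZero_rightDerived_obj_injective_succ n (S X).X₂).eq_of_tgt _ _)
    have z1 : ∀ X, (T n).map (S X).g ≫ e.hom.app (S X).X₃ ≫ q X = 0 := fun X => by
      rw [← Category.assoc, e.hom.naturality, Category.assoc]
      exact (congrArg (e.hom.app _ ≫ ·) (les.comp_δ (S X) (hS X) n (n + 1) rfl)).trans comp_zero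
    have z2 : ∀ X, (F.rightDerived n).map (S X).g ≫ e.inv.app (S X).X₃ ≫ p X = 0 := fun X => by
      rw [← Category.assoc, e.inv.naturality, Category.assoc]
      exact (congrArg (e.inv.app _ ≫ ·) (hzero (S X) (hS X) n)).trans comp_zero
    let a : ∀ X : A, (T (n + 1)).obj X ⟶ (F.rightDerived (n + 1)).obj X := fun X =>
      haveI : Epi (p X) := hp X
      (hex (S X) (hS X) n (hJ X)).desc (e.hom.app (S X).X₃ ≫ q X) (z1 X)
    let b : ∀ X : A, (F.rightDerived (n + 1)).obj X ⟶ (T (n + 1)).obj X := fun X =>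
      haveI : Epi (q X) := hq X
      (les.exact₃ (S X) (hS X) n (n + 1) rfl).desc (e.inv.app (S X).X₃ ≫ p X) (z2 X)
    have ha : ∀ X, p X ≫ a X = e.hom.app (S X).X₃ ≫ q X := fun X =>
      haveI : Epi (p X) := hp X
      (hex (S X) (hS X) n (hJ X)).g_desc _ (z1 X)
    have hb : ∀ X, q X ≫ b X = e.inv.app (S X).X₃ ≫ p X := fun X =>
      haveI : Epi (q X) := hq X
      (les.exact₃ (S X) (hS X) n (n + 1) rfl).g_desc _ (z2 X)
    refine ⟨NatIso.ofComponents (fun X => ⟨a X, b X, ?_, ?_⟩) ?_⟩
    · haveI : Epi (p X) := hp X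
      rw [← cancel_epi (p X), reassoc_of% (ha X), hb X, Iso.hom_inv_id_app_assoc, Category.comp_id]
    · haveI : Epi (q X) := hq X
      rw [← cancel_epi (q X), reassoc_of% (hb X), ha X, Iso.inv_hom_id_app_assoc, Category.comp_id]
    · intro X Y f
      show (T (n + 1)).map f ≫ a Y = a X ≫ (F.rightDerived (n + 1)).map f
      haveI : Epi (p X) := hp X
      haveI := hJ Y
      let u : (S X).X₂ ⟶ (S Y).X₂ := Injective.factorThru (f ≫ Injective.ι Y) (Injective.ι X)
      have hu : Injective.ι X ≫ u = f ≫ Injective.ι Y := Injective.comp_factorThru _ _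
      let φ : S X ⟶ S Y := ShortComplex.homMk f u (cokernel.map (Injective.ι X) (Injective.ι Y) f u hu)
        hu.symm (cokernel.π_desc _ _ _).symm
      have h1 : (T n).map φ.τ₃ ≫ p Y = p X ≫ (T (n + 1)).map f := hnat _ _ (hS X) (hS Y) φ n
      have h2 : (F.rightDerived n).map φ.τ₃ ≫ q Y = q X ≫ (F.rightDerived (n + 1)).map f :=
        les.δ_natural (hS X) (hS Y) φ n (n + 1) rfl
      rw [← cancel_epi (p X)]
      refine ((Category.assoc _ _ _).symm.trans ((congrArg (· ≫ a Y) h1.symm).trans (Category.assoc _ _ _))).trans ?_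
      rw [ha Y, reassoc_of% (ha X), ← h2, NatTrans.naturality_assoc]

end GrothLib.CechUniv
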