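import Groth.Agent.Lib.CechInj.Basic
import Mathlib.Algebra.Homology.HomologicalComplexAbelian
import Mathlib.Algebra.Homology.ShortComplex.ExactFunctor
import Mathlib.CategoryTheory.Preadditive.AdditiveFunctor

/-!
# The Cech complex is exact on presheaves
-/

set_option autoImplicit false
universe w v u

open CategoryTheory Limits Opposite

noncomputable section

namespace GrothLib.CechUniv

open GrothLib.CechInj

variable {C : Type u} [Category.{v} C] {U : C} [HasFiniteProducts (Over U)] {ι : Type w} (Y : ι → Over U)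

/-- The Cech complex as a functor. -/
abbrev cxFun : (Cᵒᵖ ⥤ AddCommGrpCat.{w}) ⥤ CochainComplex AddCommGrpCat.{w} ℕ :=
  (Functor.whiskeringLeft (Over U)ᵒᵖ Cᵒᵖ AddCommGrpCat.{w}).obj (Over.forget U).op ⋙ cechComplexFunctor Y

lemma ev_map {P Q : Cᵒᵖ ⥤ AddCommGrpCat.{w}} (f : P ⟶ Q) {n : ℕ} (a : Fin (n + 1) → ι)
    (x : (EtCech.cechComplex Y P).X n) :
    ev Y Q a (((cxFun Y).map f).f n x) = f.app (op (GrothLib.CechInj.obj Y a).left) (ev Y P a x) := by
  exact ConcreteCategory.congr_hom (Limits.Pi.map_π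
    (fun a : Fin (n + 1) → ι => f.app (op (GrothLib.CechInj.obj Y a).left)) a) x

instance : (cxFun Y).Additive where
  map_add {P Q f g} := by
    refine HomologicalComplex.hom_ext _ _ fun n => ?_
    refine ConcreteCategory.hom_ext _ _ fun x => ev_ext Y Q fun a => ?_
    show ev Y Q a (((cxFun Y).map (f + g)).f n x) =
      ev Y Q a (((cxFun Y).map f).f n x + ((cxFun Y).map g).f n x)
    rw [map_add, ev_map, ev_map, ev_map]
    rfl

theorem shortExact_map (S : ShortComplex (Cᵒᵖ ⥤ AddCommGrpCat.{w})) (hS : S.ShortExact) :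
    (S.map (cxFun Y)).ShortExact := by
  apply HomologicalComplex.shortExact_of_degreewise_shortExact
  intro n
  have hW : ∀ W : Cᵒᵖ, (S.map ((evaluation Cᵒᵖ AddCommGrpCat.{w}).obj W)).ShortExact :=
    fun W => hS.map_of_exact _
  refine { exact := ?_, mono_f := ?_, epi_g := ?_ }
  · rw [ShortComplex.ab_exact_iff]
    intro (x : (EtCech.cechComplex Y S.X₂).X n) hx
    have : ∀ a, ∃ r, S.f.app (op (GrothLib.CechInj.obj Y a).left) r = ev Y S.X₂ a x := fun a => by
      refine (ShortComplex.ab_exact_iff _).1 (hW _).exact (ev Y S.X₂ a x) ?_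
      exact (ev_map Y S.g a x).symm.trans ((congrArg (ev Y _ a) hx).trans (map_zero _))
    choose r hr using this
    refine ⟨mk Y S.X₁ r, ev_ext Y _ fun a => ?_⟩
    exact (ev_map Y S.f a _).trans ((congrArg _ (ev_mk Y S.X₁ r a)).trans (hr a))
  · rw [AddCommGrpCat.mono_iff_injective]
    intro (x : (EtCech.cechComplex Y S.X₁).X n) (y : (EtCech.cechComplex Y S.X₁).X n) hxy
    refine ev_ext Y _ fun a => (AddCommGrpCat.mono_iff_injective _).1 (hW _).mono_f ?_
    exact (ev_map Y S.f a x).symm.trans ((congrArg (ev Y _ a) hxy).trans (ev_map Y S.f a y))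
  · rw [AddCommGrpCat.epi_iff_surjective]
    intro (x : (EtCech.cechComplex Y S.X₃).X n)
    have : ∀ a, ∃ r, S.g.app (op (GrothLib.CechInj.obj Y a).left) r = ev Y S.X₃ a x :=
      fun a => (AddCommGrpCat.epi_iff_surjective _).1 (hW _).epi_g _
    choose r hr using this
    refine ⟨mk Y S.X₂ r, ev_ext Y _ fun a => ?_⟩
    exact (ev_map Y S.g a _).trans ((congrArg _ (ev_mk Y S.X₂ r a)).trans (hr a))

end GrothLib.CechUniv
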