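import Groth.Agent.Lib.CechUniv.Delta
import Mathlib.Algebra.Homology.DerivedCategory.Ext.ExactSequences
import Mathlib.Algebra.Category.Grp.EpiMono
import Mathlib.Algebra.Homology.ShortComplex.Ab

/-!
# `Ext` after an exact functor as a derived functor
-/

set_option autoImplicit false
universe w v v' u u'

open CategoryTheory CategoryTheory.Limits CategoryTheory.Abelian

noncomputable section

namespace GrothLib.CechUniv

variable {A : Type u} [Category.{v} A] [Abelian A] [EnoughInjectives A] [HasInjectiveResolutions A]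
  {C : Type u'} [Category.{v'} C] [Abelian C] [HasExt.{w} C] (G : A ⥤ C) [G.Additive]
  [PreservesFiniteLimits G] [PreservesFiniteColimits G] (Z : C)

/-- The connecting map of `Ext^n(Z, G -)`. -/
def extDelta (S : ShortComplex A) (hS : S.ShortExact) (n : ℕ) :
    (G ⋙ extFunctorObj Z n).obj S.X₃ ⟶ (G ⋙ extFunctorObj Z (n + 1)).obj S.X₁ :=
  AddCommGrpCat.ofHom ((hS.map_of_exact G).extClass.postcomp Z rfl)

omit [EnoughInjectives A] [HasInjectiveResolutions A] in
theorem extDelta_natural (S S' : ShortComplex A) (hS : S.ShortExact) (hS' : S'.ShortExact) (φ : S ⟶ S') (n : ℕ) :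
    (G ⋙ extFunctorObj Z n).map φ.τ₃ ≫ extDelta G Z S' hS' n =
      extDelta G Z S hS n ≫ (G ⋙ extFunctorObj Z (n + 1)).map φ.τ₁ := by
  refine AddCommGrpCat.hom_ext (AddMonoidHom.ext fun (x : Ext Z (G.obj S.X₃) n) => ?_)
  have hn := ShortComplex.ShortExact.extClass_naturality (hS.map_of_exact G) (hS'.map_of_exact G)
    (G.mapShortComplex.map φ)
  show (x.comp (Ext.mk₀ (G.map φ.τ₃)) (add_zero n)).comp (hS'.map_of_exact G).extClass rfl =
    (x.comp (hS.map_of_exact G).extClass rfl).comp (Ext.mk₀ (G.map φ.τ₁)) (add_zero (n + 1))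
  refine (Ext.comp_assoc x (Ext.mk₀ _) _ (add_zero n) (zero_add 1) (by omega)).trans ?_
  refine (congrArg (fun z => Ext.comp x z (a := n) rfl) hn.symm).trans ?_
  exact (Ext.comp_assoc x _ (Ext.mk₀ _) rfl (add_zero 1) (by omega)).symm

omit [EnoughInjectives A] [HasInjectiveResolutions A] in
theorem extDelta_comp (S : ShortComplex A) (hS : S.ShortExact) (n : ℕ) :
    (G ⋙ extFunctorObj Z n).map S.g ≫ extDelta G Z S hS n = 0 := by
  refine AddCommGrpCat.hom_ext (AddMonoidHom.ext fun (x : Ext Z (G.obj S.X₂) n) => ?_)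
  show (x.comp (Ext.mk₀ (G.map S.g)) (add_zero n)).comp (hS.map_of_exact G).extClass rfl = 0
  refine (Ext.comp_assoc x (Ext.mk₀ _) _ (add_zero n) (zero_add 1) (by omega)).trans ?_
  exact (congrArg (fun z => Ext.comp x z (a := n) rfl) (hS.map_of_exact G).comp_extClass).trans (Ext.comp_zero ..)

/-- `Ext^n(Z, G -)` is the derived functor of `F`, if it vanishes on injectives. -/
theorem nonempty_extFunctor_iso_rightDerived (F : A ⥤ AddCommGrpCat.{w}) [F.Additive] [PreservesFiniteLimits F]
    (hI : ∀ (I : A), Injective I → ∀ n : ℕ, Subsingleton (Ext.{w} Z (G.obj I) (n + 1)))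
    (e₀ : G ⋙ extFunctorObj Z 0 ≅ F) (n : ℕ) : Nonempty (G ⋙ extFunctorObj Z n ≅ F.rightDerived n) := by
  refine nonempty_iso_rightDerived_of_delta F (fun n => G ⋙ extFunctorObj Z n)
    (fun S hS n => extDelta G Z S hS n) (fun S S' hS hS' φ n => extDelta_natural G Z S S' hS hS' φ n)
    (fun S hS n => extDelta_comp G Z S hS n) ?_ ?_ e₀ n
  · intro S hS n _
    rw [ShortComplex.ab_exact_iff]
    intro (x : Ext Z (G.obj S.X₃) n) hx
    exact Ext.covariant_sequence_exact₃ Z (hS.map_of_exact G) x rfl hx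
  · intro S hS n hJ
    rw [AddCommGrpCat.epi_iff_surjective]
    intro (x : Ext Z (G.obj S.X₁) (n + 1))
    exact Ext.covariant_sequence_exact₁ Z (hS.map_of_exact G) x (@Subsingleton.elim _ (hI S.X₂ hJ n) _ _) rfl

end GrothLib.CechUniv
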