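import Groth.Agent.Lib.CechUniv.Exact
import Groth.Agent.Lib.EtShriek.Colim
import Mathlib.Algebra.Homology.HomologySequence

/-!
# Cech-acyclic etale sheaves pass to quotients
-/

set_option autoImplicit false
set_option backward.isDefEq.respectTransparency false
universe u

open CategoryTheory Limits Opposite AlgebraicGeometry

noncomputable section

namespace GrothLib.CechUniv

open GrothLib.CechInj

variable {X : Scheme.{u}} {T : X.Etale} [HasFiniteProducts (Over T)] {ι : Type (u + 1)} (Y : ι → Over T)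
  {S : ShortComplex (EtCoh.Ab X)}

theorem sections_exact (hS : S.ShortExact) (W : X.Etale) (s : S.X₂.obj.obj (op W))
    (hs : S.g.hom.app (op W) s = 0) : ∃ r, S.f.hom.app (op W) r = s := by
  have := hS.mono_f
  exact (ShortComplex.ab_exact_iff _).1
    ((hS.exact.map_of_mono_of_preservesKernel (sheafToPresheaf _ AddCommGrpCat.{u + 1})
      inferInstance inferInstance).map ((evaluation _ _).obj (op W))) s hs

theorem sections_injective (hS : S.ShortExact) (W : X.Etale) :
    Function.Injective (S.f.hom.app (op W)) := by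
  have := hS.mono_f
  have : Mono ((sheafToPresheaf X.smallEtaleTopology AddCommGrpCat.{u + 1}).map S.f) := inferInstance
  exact (AddCommGrpCat.mono_iff_injective _).1
    (inferInstanceAs (Mono (((sheafToPresheaf X.smallEtaleTopology AddCommGrpCat.{u + 1}).map S.f).app (op W))))

/-- Sections which agree on a covering family are equal. -/
theorem eq_of_cover {α : Type*} (V : α → X.Etale) (g : ∀ i, V i ⟶ T) (F : EtCoh.Ab X)
    (hcov : ∀ x : T.left, ∃ i, x ∈ Set.range (g i).left.base) (s t : EtCoh.sect F T)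
    (h : ∀ i, F.obj.map (g i).op s = F.obj.map (g i).op t) : s = t := by
  have hP : Presieve.IsSheaf X.smallEtaleTopology (F.obj ⋙ forget AddCommGrpCat.{u + 1}) :=
    (isSheaf_iff_isSheaf_of_type _ _).1
      ((sheafCompose X.smallEtaleTopology (forget AddCommGrpCat.{u + 1})).obj F).property
  have hR : Sieve.generate (Presieve.ofArrows V g) ∈ X.smallEtaleTopology T := by
    refine (GrothLib.EtSite.mem_topology_iff _).2 fun x => ?_
    obtain ⟨i, v, hv⟩ := hcov x
    exact ⟨V i, g i, v, Sieve.le_generate _ _ _ (Presieve.ofArrows.mk i), hv⟩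
  refine (((Presieve.isSheafFor_iff_generate _).2 (hP _ hR)).isSeparatedFor).ext fun W f hf => ?_
  obtain ⟨i⟩ := hf
  exact h i

/-- The diagonal into the one-term product. -/
def diag (i : ι) : (Y i).left ⟶ (obj Y (fun _ : Fin 1 => i)).left :=
  (Pi.lift (f := fun _ : Fin 1 => Y i) fun _ => 𝟙 (Y i)).left

theorem map_ev_single (P : X.Etaleᵒᵖ ⥤ AddCommGrpCat.{u + 1}) (x : (EtCech.cechComplex Y P).X 0)
    (a : Fin 1 → ι) (i : ι) (h : a 0 = i) {W : X.Etale} (g : W ⟶ (obj Y a).left) (g' : W ⟶ (Y i).left)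
    (hg : g ≫ (Pi.π (fun k => Y (a k)) 0).left ≫ (eqToHom (congrArg Y h)).left = g') :
    P.map g.op (ev Y P a x) = P.map g'.op (P.map (diag Y i).op (ev Y P (fun _ => i) x)) := by
  obtain rfl : a = fun _ => i := funext fun m => by
    rw [show m = 0 from Fin.ext (by omega)]
    exact h
  refine Eq.trans ?_ ((ConcreteCategory.congr_hom (P.map_comp (diag Y i).op g'.op) _).trans (ConcreteCategory.comp_apply _ _ _))
  rw [← op_comp, ← hg]
  refine congrArg (fun z => P.map z.op (ev Y P (fun _ => i) x)) (obj_hom_ext Y _ _ fun m => ?_)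
  obtain rfl : m = 0 := Fin.ext (by omega)
  have e1 : (diag Y i) ≫ (Pi.π (fun _ : Fin (0 + 1) => Y i) 0).left = 𝟙 _ :=
    (Over.comp_left _ _ _ _ _).symm.trans ((congrArg Over.Hom.left (Pi.lift_π _ _)).trans (Over.id_left _))
  simp only [Category.assoc, e1, eqToHom_refl, Over.id_left, Category.comp_id]

/-- Local lifts glue when `Ȟ¹` of the kernel vanishes. -/
theorem exists_lift (hS : S.ShortExact)
    (hcov : ∀ x : T.left, ∃ (i : ι) (y : (Y i).left.left), (Y i).hom.left.base y = x)
    (h1 : IsZero (EtCech.cechH Y S.X₁.obj 1)) (s : S.X₃.obj.obj (op T))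
    (hs : ∀ i, ∃ r, S.g.hom.app (op (Y i).left) r = S.X₃.obj.map (Y i).hom.op s) :
    ∃ t, S.g.hom.app (op T) t = s := by
  choose r hr using hs
  let x : (EtCech.cechComplex Y S.X₂.obj).X 0 := mk Y S.X₂.obj fun a =>
    S.X₂.obj.map (Pi.π (fun k => Y (a k)) 0).left.op (r (a 0))
  have hgx : ∀ a : Fin 1 → ι, S.g.hom.app (op (obj Y a).left) (ev Y S.X₂.obj a x) =
      S.X₃.obj.map (obj Y a).hom.op s := fun a => by
    rw [ev_mk]
    refine (NatTrans.naturality_apply S.g.hom _ _).trans ?_
    rw [hr, ← ConcreteCategory.comp_apply, ← Functor.map_comp, ← op_comp, Over.w]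
  let y := (EtCech.cechComplex Y S.X₂.obj).d 0 1 x
  have hgy : ∀ a : Fin 2 → ι, S.g.hom.app (op (obj Y a).left) (ev Y S.X₂.obj a y) = 0 := fun a => by
    rw [ev_d, map_sum]
    have e : ∀ k : Fin 2, S.g.hom.app (op (obj Y a).left) ((-1 : ℤ) ^ (k : ℕ) •
        S.X₂.obj.map (proj Y a k).left.op (ev Y S.X₂.obj (fun l => a (k.succAbove l)) x)) =
        (-1 : ℤ) ^ (k : ℕ) • S.X₃.obj.map (obj Y a).hom.op s := fun k => by
      rw [map_zsmul, NatTrans.naturality_apply S.g.hom, hgx, ← ConcreteCategory.comp_apply,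
        ← Functor.map_comp, ← op_comp, Over.w]
    rw [Finset.sum_congr rfl (fun k _ => e k), Fin.sum_univ_two]
    simp
  have hc : ∀ a : Fin 2 → ι, ∃ c, S.f.hom.app (op (obj Y a).left) c = ev Y S.X₂.obj a y :=
    fun a => sections_exact hS _ _ (hgy a)
  choose c hc using hc
  let z : (EtCech.cechComplex Y S.X₁.obj).X 1 := mk Y S.X₁.obj c
  have hfz : ((cxFun Y).map S.f.hom).f 1 z = y := ev_ext Y _ fun a => by
    rw [ev_map, ev_mk, hc]
  have hdz : (EtCech.cechComplex Y S.X₁.obj).d 1 2 z = 0 := by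
    refine ev_ext Y _ fun a => sections_injective hS _ ?_
    rw [map_zero, map_zero, ← ev_map Y S.f.hom]
    have h2 := ConcreteCategory.congr_hom (((cxFun Y).map S.f.hom).comm 1 2) z
    rw [ConcreteCategory.comp_apply, ConcreteCategory.comp_apply] at h2
    erw [← h2, hfz]
    exact (congrArg (ev Y S.X₂.obj a) (ConcreteCategory.congr_hom
      ((EtCech.cechComplex Y S.X₂.obj).d_comp_d 0 1 2) x)).trans (map_zero _)
  rw [← HomologicalComplex.exactAt_iff_isZero_homology,
    HomologicalComplex.exactAt_iff' _ 0 1 2 (by simp) (by simp), ShortComplex.ab_exact_iff] at h1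
  obtain ⟨e, he⟩ := h1 z hdz
  let fe : (EtCech.cechComplex Y S.X₂.obj).X 0 := ((cxFun Y).map S.f.hom).f 0 e
  let x' : (EtCech.cechComplex Y S.X₂.obj).X 0 := x - fe
  have hdx' : (EtCech.cechComplex Y S.X₂.obj).d 0 1 x' = 0 := by
    simp only [x', map_sub, sub_eq_zero]
    refine Eq.symm ((ConcreteCategory.congr_hom (((cxFun Y).map S.f.hom).comm 0 1) e).trans ?_)
    exact (congrArg (((cxFun Y).map S.f.hom).f 1) he).trans hfz
  -- the adjusted lifts glue
  let b : ∀ i : ι, S.X₂.obj.obj (op (Y i).left) := fun i =>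
    S.X₂.obj.map (diag Y i).op (ev Y S.X₂.obj (fun _ => i) x')
  have hcompat : ∀ (i j : ι) (W : X.Etale) (p : W ⟶ (Y i).left) (q : W ⟶ (Y j).left),
      p ≫ (Y i).hom = q ≫ (Y j).hom → S.X₂.obj.map p.op (b i) = S.X₂.obj.map q.op (b j) := by
    intro i j W p q hpq
    let a : Fin 2 → ι := Fin.cons i (fun _ => j)
    let comps : ∀ k : Fin 2, (Over.mk (p ≫ (Y i).hom) ⟶ Y (a k)) :=
      Fin.cons (α := fun k => (Over.mk (p ≫ (Y i).hom) ⟶ Y (a k))) (Over.homMk p rfl)
        (fun _ => Over.homMk q hpq.symm)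
    let l : Over.mk (p ≫ (Y i).hom) ⟶ obj Y a := Pi.lift comps
    have hd := congrArg (fun w => S.X₂.obj.map l.left.op (ev Y S.X₂.obj a w)) hdx'
    simp only [map_zero] at hd
    rw [ev_d, map_sum, Fin.sum_univ_two] at hd
    simp only [Fin.val_zero, Fin.val_one, pow_zero, pow_one, one_smul, map_neg, neg_smul] at hd
    have hl : ∀ (k : Fin 2), (l ≫ proj Y a k).left ≫ (Pi.π (fun m => Y (a (k.succAbove m))) 0).left =
        (comps (k.succAbove 0)).left := fun k => by
      rw [← Over.comp_left, Category.assoc, Pi.lift_π, Pi.lift_π]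
    have k0 : S.X₂.obj.map l.left.op (S.X₂.obj.map (proj Y a 0).left.op
          (ev Y S.X₂.obj (fun m => a ((0 : Fin 2).succAbove m)) x')) = S.X₂.obj.map q.op (b j) := by
      rw [← ConcreteCategory.comp_apply, ← Functor.map_comp, ← op_comp, ← Over.comp_left]
      refine map_ev_single Y S.X₂.obj x' _ j rfl _ q ?_
      rw [← Category.assoc, hl 0]
      exact Category.comp_id _
    have k1 : S.X₂.obj.map l.left.op (S.X₂.obj.map (proj Y a 1).left.op
          (ev Y S.X₂.obj (fun m => a ((1 : Fin 2).succAbove m)) x')) = S.X₂.obj.map p.op (b i) := by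
      rw [← ConcreteCategory.comp_apply, ← Functor.map_comp, ← op_comp, ← Over.comp_left]
      refine map_ev_single Y S.X₂.obj x' _ i rfl _ p ?_
      rw [← Category.assoc, hl 1]
      exact Category.comp_id _
    rw [k0, k1, ← sub_eq_add_neg, sub_eq_zero] at hd
    exact hd.symm
  obtain ⟨t, ht⟩ := GrothLib.EtShriek.exists_glue S.X₂ T (fun i => (Y i).left) (fun i => (Y i).hom)
    (fun x => by obtain ⟨i, y, hy⟩ := hcov x; exact ⟨i, y, hy⟩) b hcompat
  refine ⟨t, ?_⟩
  refine eq_of_cover (fun i => (Y i).left) (fun i => (Y i).hom) S.X₃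
    (fun x => by obtain ⟨i, y, hy⟩ := hcov x; exact ⟨i, y, hy⟩) _ _ fun i => ?_
  refine (NatTrans.naturality_apply S.g.hom _ _).symm.trans ?_
  rw [ht i]
  refine (NatTrans.naturality_apply S.g.hom _ _).trans ?_
  have hx' : S.g.hom.app (op (obj Y fun _ : Fin 1 => i).left) (ev Y S.X₂.obj (fun _ => i) x') =
      S.X₃.obj.map (obj Y fun _ : Fin 1 => i).hom.op s := by
    simp only [x', map_sub]
    rw [hgx, sub_eq_self]
    simp only [fe]
    rw [ev_map]
    exact ConcreteCategory.congr_hom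
      (congrArg (fun k => k.hom.app (op (obj Y fun _ : Fin 1 => i).left)) S.zero) _
  rw [hx', ← ConcreteCategory.comp_apply, ← Functor.map_comp, ← op_comp, diag]
  erw [Over.w]

end GrothLib.CechUniv
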