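import Groth.Agent.Lib.GrothSS.Universal
import Groth.Agent.Lib.RDerLES.LES

/-!
# Universality, naturally

An exact functor to complexes whose higher cohomology vanishes on injectives computes the right
derived functors of its degree-zero cohomology, as functors.
-/

set_option autoImplicit false
universe v v' u u'

open CategoryTheory CategoryTheory.Limits

noncomputable section

namespace GrothLib.CechUniv

open GrothLib.GrothSS

variable {A : Type u} [Category.{v} A] [Abelian A] [EnoughInjectives A]
  {B : Type u'} [Category.{v'} B] [Abelian B] (C : A ⥤ CochainComplex B ℕ) [C.Additive]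
  (hC : ∀ S : ShortComplex A, S.ShortExact → (S.map C).ShortExact)

include hC in
theorem nonempty_natIso_rightDerived [HasInjectiveResolutions A]
    (hI : ∀ I : A, Injective I → ∀ n : ℕ, IsZero ((C.obj I).homology (n + 1))) :
    ∀ n : ℕ, Nonempty (cohomFun C n ≅ (cohomFun C 0).rightDerived n) := by
  have := preservesFiniteLimits_cohomFun_zero C hC
  obtain ⟨les⟩ := RDerLES.nonempty_derivedLES (cohomFun C 0)
  intro n
  induction n with
  | zero => exact ⟨(Functor.rightDerivedZeroIsoSelf (cohomFun C 0)).symm⟩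
  | succ n ih =>
    obtain ⟨e⟩ := ih
    let S : A → ShortComplex A := fun X =>
      ShortComplex.mk (Injective.ι X) (cokernel.π (Injective.ι X)) (cokernel.condition _)
    have hS : ∀ X, (S X).ShortExact := fun X => { exact := ShortComplex.exact_cokernel _ }
    have hJ : ∀ X, Injective (S X).X₂ := fun X => inferInstanceAs (Injective (Injective.under X))
    have hS' : ∀ X, ((S X).map C).ShortExact := fun X => hC _ (hS X)
    have hepi : ∀ X, Epi ((hS' X).δ n (n + 1) rfl) := fun X =>
      ((hS' X).homology_exact₁ n (n + 1) rfl).epi_f ((hI _ (hJ X) n).eq_of_tgt _ _)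
    have hepi' : ∀ X, Epi (les.δ (S X) (hS X) n (n + 1) rfl) := fun X =>
      haveI := hJ X
      (les.exact₁ (S X) (hS X) n (n + 1) rfl).epi_f
        (((cohomFun C 0).isZero_rightDerived_obj_injective_succ n (S X).X₂).eq_of_tgt _ _)
    let p : ∀ X : A, (cohomFun C n).obj (S X).X₃ ⟶ (cohomFun C (n + 1)).obj X := fun X => (hS' X).δ n (n + 1) rfl
    let q : ∀ X : A, ((cohomFun C 0).rightDerived n).obj (S X).X₃ ⟶ ((cohomFun C 0).rightDerived (n + 1)).obj X :=
      fun X => les.δ (S X) (hS X) n (n + 1) rfl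
    have z1 : ∀ X, (cohomFun C n).map (S X).g ≫ e.hom.app (S X).X₃ ≫ q X = 0 := fun X => by
      rw [← Category.assoc, e.hom.naturality, Category.assoc]
      exact (congrArg (e.hom.app _ ≫ ·) (les.comp_δ (S X) (hS X) n (n + 1) rfl)).trans comp_zero
    have z2 : ∀ X, ((cohomFun C 0).rightDerived n).map (S X).g ≫ e.inv.app (S X).X₃ ≫ p X = 0 := fun X => by
      rw [← Category.assoc, e.inv.naturality, Category.assoc]
      exact (congrArg (e.inv.app _ ≫ ·) ((hS' X).comp_δ n (n + 1) rfl)).trans comp_zero
    let a : ∀ X : A, (cohomFun C (n + 1)).obj X ⟶ ((cohomFun C 0).rightDerived (n + 1)).obj X := fun X =>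
      haveI : Epi (p X) := hepi X
      ((hS' X).homology_exact₃ n (n + 1) rfl).desc (e.hom.app (S X).X₃ ≫ q X) (z1 X)
    let b : ∀ X : A, ((cohomFun C 0).rightDerived (n + 1)).obj X ⟶ (cohomFun C (n + 1)).obj X := fun X =>
      haveI := hepi' X
      (les.exact₃ (S X) (hS X) n (n + 1) rfl).desc (e.inv.app (S X).X₃ ≫ p X) (z2 X)
    have ha : ∀ X, p X ≫ a X = e.hom.app (S X).X₃ ≫ q X := fun X =>
      haveI : Epi (p X) := hepi X
      ((hS' X).homology_exact₃ n (n + 1) rfl).g_desc _ (z1 X)
    have hb : ∀ X, q X ≫ b X = e.inv.app (S X).X₃ ≫ p X := fun X =>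
      haveI := hepi' X
      (les.exact₃ (S X) (hS X) n (n + 1) rfl).g_desc _ (z2 X)
    refine ⟨NatIso.ofComponents (fun X => ⟨a X, b X, ?_, ?_⟩) ?_⟩
    · haveI : Epi (p X) := hepi X
      rw [← cancel_epi (p X), reassoc_of% (ha X), hb X, Iso.hom_inv_id_app_assoc, Category.comp_id]
    · haveI : Epi (q X) := hepi' X
      rw [← cancel_epi (q X), reassoc_of% (hb X), ha X, Iso.inv_hom_id_app_assoc, Category.comp_id]
    · intro X Y f
      show (cohomFun C (n + 1)).map f ≫ a Y = a X ≫ ((cohomFun C 0).rightDerived (n + 1)).map f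
      haveI : Epi (p X) := hepi X
      haveI := hJ Y
      let u : (S X).X₂ ⟶ (S Y).X₂ := Injective.factorThru (f ≫ Injective.ι Y) (Injective.ι X)
      have hu : Injective.ι X ≫ u = f ≫ Injective.ι Y := Injective.comp_factorThru _ _
      let φ : S X ⟶ S Y := ShortComplex.homMk f u (cokernel.map (Injective.ι X) (Injective.ι Y) f u hu)
        hu.symm (cokernel.π_desc _ _ _).symm
      have hp : (cohomFun C n).map φ.τ₃ ≫ p Y = p X ≫ (cohomFun C (n + 1)).map f :=
        (HomologicalComplex.HomologySequence.δ_naturality (C.mapShortComplex.map φ) (hS' X) (hS' Y) n (n + 1) rfl).symm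
      have hq : ((cohomFun C 0).rightDerived n).map φ.τ₃ ≫ q Y = q X ≫ ((cohomFun C 0).rightDerived (n + 1)).map f :=
        les.δ_natural (hS X) (hS Y) φ n (n + 1) rfl
      rw [← cancel_epi (p X)]
      refine ((Category.assoc _ _ _).symm.trans ((congrArg (· ≫ a Y) hp.symm).trans (Category.assoc _ _ _))).trans ?_
      rw [ha Y, reassoc_of% (ha X), ← hq, NatTrans.naturality_assoc]

end GrothLib.CechUniv
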